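import Mathlib
import Cfsg.Agent.PCore.Basic
import Cfsg.Agent.Kazarin.Main
import Cfsg.Agent.MaxCent.Basic
import Cfsg.Agent.OrbitSolvable.Main
import Cfsg.Agent.ClassSize.CoprimeTop

/-!
Groups in which the elements of `q`-power order have classes of prime power size.
-/

set_option autoImplicit false
set_option linter.style.haveILetI false
set_option linter.unusedSectionVars false

namespace CfsgLib.QBaer

open CfsgLib.MaxCent
open scoped Pointwise

universe u

variable {G : Type u} [Group G] [Finite G] {q : ℕ} [hq : Fact q.Prime]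

theorem isPElem_of_mem {P : Subgroup G} (hP : IsPGroup q P) {x : G} (hx : x ∈ P) : IsPElem q x := by
  obtain ⟨n, hn⟩ := hP ⟨x, hx⟩
  exact ⟨n, congrArg Subtype.val hn⟩

theorem isPGroup_zpowers {x : G} (hx : IsPElem q x) : IsPGroup q (Subgroup.zpowers x) := by
  obtain ⟨n, hn⟩ := hx
  obtain ⟨k, -, hk⟩ := (Nat.dvd_prime_pow hq.out).1 (orderOf_dvd_of_pow_eq_one hn)
  exact IsPGroup.of_card (n := k) ((Nat.card_zpowers x).trans hk)

theorem exists_conj_mem (Q : Sylow q G) {x : G} (hx : IsPElem q x) : ∃ g : G, g * x * g⁻¹ ∈ Q := by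
  obtain ⟨S, hS⟩ := (isPGroup_zpowers hx).exists_le_sylow
  obtain ⟨g, hg⟩ := MulAction.exists_smul_eq G S Q
  refine ⟨g, ?_⟩
  rw [← hg]
  show g * x * g⁻¹ ∈ ((g • S : Sylow q G) : Subgroup G)
  rw [Sylow.coe_subgroup_smul, mem_conj_smul_iff, show g⁻¹ * (g * x * g⁻¹) * g = x by group]
  exact hS (Subgroup.mem_zpowers x)

theorem exists_sylow_le {H : Subgroup G} (hH : ¬ q ∣ H.index) (Q : Sylow q G) :
    ∃ g : G, MulAut.conj g • (Q : Subgroup G) ≤ H := by
  obtain ⟨S⟩ : Nonempty (Sylow q H) := inferInstance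
  have h1 : IsPGroup q ((S : Subgroup H).map H.subtype) := S.2.map _
  have h2 : ¬ q ∣ ((S : Subgroup H).map H.subtype).index := by
    rw [Subgroup.index_map_subtype]
    exact hq.out.not_dvd_mul S.not_dvd_index hH
  obtain ⟨g, hg⟩ := MulAction.exists_smul_eq G Q (h1.toSylow h2)
  refine ⟨g, ?_⟩
  have h3 := congrArg (fun P : Sylow q G => (P : Subgroup G)) hg
  simp only [Sylow.coe_subgroup_smul, IsPGroup.toSylow_coe] at h3
  exact h3.le.trans (Subgroup.map_subtype_le _)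

theorem index_cent_conj (g x : G) : (cent (g * x * g⁻¹)).index = (cent x).index := by
  rw [cent_conj]
  exact Subgroup.index_map_equiv (cent x) (MulAut.conj g)

/-- The image of an element of `q`-power order with a class of `r`-power size modulo `O_r`. -/
theorem image_mem_pCore {r a : ℕ} [Fact r.Prime] {x : G} (hx : IsPElem q x) (hidx : (cent x).index = r ^ a)
    [hR : (Cfsg.pCore r G).Normal] :
    QuotientGroup.mk' (Cfsg.pCore r G) x ∈ Cfsg.pCore q (G ⧸ Cfsg.pCore r G) := by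
  set π := QuotientGroup.mk' (Cfsg.pCore r G) with hπ
  set S : Set (G ⧸ Cfsg.pCore r G) := Set.range fun g => π (g * x * g⁻¹) with hS
  have hcomm : ∀ u ∈ S, ∀ v ∈ S, u * v = v * u := by
    rintro _ ⟨g, rfl⟩ _ ⟨h, rfl⟩
    have h1 := (QuotientGroup.eq_one_iff _).2 (Kazarin.commutator_mem_pCore x hidx g h)
    change π _ = 1 at h1
    rw [map_mul, map_mul, map_mul, map_inv, map_inv, mul_inv_eq_one, mul_inv_eq_iff_eq_mul] at h1
    exact h1
  haveI := Subgroup.isMulCommutative_closure hcomm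
  have hN : (Subgroup.closure S).Normal := by
    refine ⟨fun n hn t => ?_⟩
    obtain ⟨t, rfl⟩ := QuotientGroup.mk'_surjective (Cfsg.pCore r G) t
    induction hn using Subgroup.closure_induction with
    | mem w hw =>
      obtain ⟨g, rfl⟩ := hw
      refine Subgroup.subset_closure ⟨t * g, ?_⟩
      show π (t * g * x * (t * g)⁻¹) = π t * π (g * x * g⁻¹) * (π t)⁻¹
      rw [← map_inv, ← map_mul, ← map_mul]
      congr 1; group
    | one => simp
    | mul a c _ _ ha hc =>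
      rw [show ∀ T : G ⧸ Cfsg.pCore r G, T * (a * c) * T⁻¹ = T * a * T⁻¹ * (T * c * T⁻¹) from fun T => by group]
      exact mul_mem ha hc
    | inv a _ ha =>
      rw [show ∀ T : G ⧸ Cfsg.pCore r G, T * a⁻¹ * T⁻¹ = (T * a * T⁻¹)⁻¹ from fun T => by group]
      exact inv_mem ha
  have hP : IsPGroup q (Subgroup.closure S) := by
    rintro ⟨w, hw⟩
    suffices h : IsPElem q w from h.imp fun n hn => Subtype.ext hn
    induction hw using Subgroup.closure_induction with
    | mem w hw =>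
      obtain ⟨g, rfl⟩ := hw
      obtain ⟨n, hn⟩ := hx.conj g
      exact ⟨n, by rw [← map_pow, hn, map_one]⟩
    | one => exact ⟨0, one_pow _⟩
    | mul a c ha hc iha ihc =>
      obtain ⟨n, hn⟩ := iha
      obtain ⟨m, hm⟩ := ihc
      have hc' : Commute a c := congrArg Subtype.val (mul_comm' (⟨a, ha⟩ : Subgroup.closure S) ⟨c, hc⟩)
      refine ⟨n + m, ?_⟩
      rw [hc'.mul_pow, pow_add, pow_mul a, hn, one_pow, mul_comm (q ^ n), pow_mul, hm, one_pow, one_mul]
    | inv a _ iha =>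
      obtain ⟨n, hn⟩ := iha
      exact ⟨n, by rw [inv_pow, hn, inv_one]⟩
  exact PCore.le_pCore hN hP (Subgroup.subset_closure ⟨1, by simp⟩)

theorem mem_pCore_self {a : ℕ} {x : G} (hx : IsPElem q x) (hidx : (cent x).index = q ^ a) :
    x ∈ Cfsg.pCore q G := by
  haveI : (Cfsg.pCore q G).Normal := Subgroup.sSup_normal _ (fun _ h => h.1)
  have h := image_mem_pCore (r := q) hx hidx
  rw [PCore.pCore_quotient, Subgroup.mem_bot, QuotientGroup.mk'_apply, QuotientGroup.eq_one_iff] at h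
  exact h

theorem comap_eq_sup (N : Subgroup G) [N.Normal] (Q : Sylow q G)
    (hQ : (Q : Subgroup G) ≤ (Cfsg.pCore q (G ⧸ N)).comap (QuotientGroup.mk' N)) :
    (Cfsg.pCore q (G ⧸ N)).comap (QuotientGroup.mk' N) = N ⊔ (Q : Subgroup G) ∧
      (∃ m, N.relIndex (N ⊔ (Q : Subgroup G)) = q ^ m) ∧ ¬ q ∣ (N ⊔ (Q : Subgroup G)).index := by
  set L := (Cfsg.pCore q (G ⧸ N)).comap (QuotientGroup.mk' N) with hL
  have hle : N ⊔ (Q : Subgroup G) ≤ L := sup_le (by
    intro n hn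
    rw [hL, Subgroup.mem_comap, QuotientGroup.mk'_apply, (QuotientGroup.eq_one_iff n).2 hn]
    exact one_mem _) hQ
  have hidx : ¬ q ∣ (N ⊔ (Q : Subgroup G)).index := fun h =>
    Q.not_dvd_index (h.trans (Subgroup.index_dvd_of_le le_sup_right))
  obtain ⟨m, hm⟩ : ∃ m, N.relIndex L = q ^ m := by
    obtain ⟨m, hm⟩ := IsPGroup.iff_card.1 (PCore.isPGroup_pCore q (G ⧸ N))
    refine ⟨m, ?_⟩
    have := Subgroup.relIndex_ker (K := L) (QuotientGroup.mk' N)
    rwa [QuotientGroup.ker_mk', hL, Subgroup.map_comap_eq_self_of_surjective (QuotientGroup.mk'_surjective N),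
      hm] at this
  have h1 := Subgroup.relIndex_mul_relIndex N (N ⊔ (Q : Subgroup G)) L le_sup_left hle
  rw [hm] at h1
  have h2 : (N ⊔ (Q : Subgroup G)).relIndex L = 1 := by
    refine Nat.eq_one_of_dvd_coprimes (k := (N ⊔ (Q : Subgroup G)).relIndex L)
      (Nat.Coprime.pow_left m (hq.out.coprime_iff_not_dvd.2 hidx)) ?_ (Subgroup.relIndex_dvd_index_of_le hle)
    exact ⟨_, (h1.symm.trans (mul_comm _ _))⟩
  have heq := le_antisymm (Subgroup.relIndex_eq_one.1 h2) hle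
  exact ⟨heq, ⟨m, heq ▸ hm⟩, hidx⟩

theorem mem_prime_part_coprime {s : ℕ} (hs : s.Prime) (hsq : s ≠ q) {g : G} (hg : IsPElem s g) {C : Subgroup G}
    {a : ℕ} (hC : C.index = q ^ a) : ∃ h : G, h * g * h⁻¹ ∈ C := by
  haveI := Fact.mk hs
  obtain ⟨P⟩ : Nonempty (Sylow s G) := inferInstance
  obtain ⟨t, ht⟩ := exists_sylow_le (q := s) (H := C)
    (fun h => hsq ((Nat.prime_dvd_prime_iff_eq hs hq.out).1 (hs.dvd_of_dvd_pow (hC ▸ h)))) P
  obtain ⟨h, hh⟩ := exists_conj_mem P hg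
  refine ⟨t * h, ht ?_⟩
  rw [mem_conj_smul_iff, show t⁻¹ * (t * h * g * (t * h)⁻¹) * t = h * g * h⁻¹ by group]
  exact hh

/-- The covering lemma. -/
theorem centralises_of_cover (Q : Sylow q G) [hQn : (Q : Subgroup G).Normal]
    (hna : ¬ ∀ x ∈ Q, ∀ y ∈ Q, x * y = y * x)
    (hcov : ∀ x ∈ Q, (∀ y ∈ Q, x * y = y * x) ∨ ∃ a, (cent x).index = q ^ a)
    {g : G} {s : ℕ} (hs : s.Prime) (hsq : s ≠ q) (hg : IsPElem s g) : ∀ x ∈ Q, g * x = x * g := by
  set C : Subgroup (Q : Subgroup G) := (cent g).subgroupOf (Q : Subgroup G) with hC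
  set Z := Subgroup.center (Q : Subgroup G) with hZ
  have hcentral : ∀ x : ↥(Q : Subgroup G), x ∈ Z ∨ ∃ u : ↥(Q : Subgroup G), u * x * u⁻¹ ∈ C := by
    intro x
    rcases hcov x x.2 with h | ⟨a, ha⟩
    · exact Or.inl (Subgroup.mem_center_iff.2 fun y => Subtype.ext (h y y.2).symm)
    · obtain ⟨h, hh⟩ := mem_prime_part_coprime hs hsq hg ha
      obtain ⟨u, hu, c, hc, huc⟩ := Kazarin.exists_mul (cent (x : G)) ha Q h⁻¹
      refine Or.inr ⟨⟨u, hu⟩, ?_⟩
      rw [hC, Subgroup.mem_subgroupOf]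
      show u * (x : G) * u⁻¹ ∈ cent g
      have e : u * (x : G) * u⁻¹ = h⁻¹ * x * h := by
        have hcx : c * (x : G) = x * c := mem_cent.1 hc
        calc u * (x : G) * u⁻¹ = u * (x * c) * c⁻¹ * u⁻¹ := by group
          _ = (u * c) * x * (u * c)⁻¹ := by rw [← hcx]; group
          _ = h⁻¹ * x * h := by rw [← huc, inv_inv]
      rw [e, mem_cent]
      have hh' := mem_cent.1 hh
      calc h⁻¹ * (x : G) * h * g = h⁻¹ * ((x : G) * (h * g * h⁻¹)) * h := by group
        _ = h⁻¹ * (h * g * h⁻¹ * x) * h := by rw [hh']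
        _ = g * (h⁻¹ * x * h) := by group
  haveI : Group.IsNilpotent ↥(Q : Subgroup G) := Q.2.isNilpotent
  have htop : C ⊔ Z = ⊤ := by
    rcases eq_top_or_exists_le_coatom (C ⊔ Z) with h | ⟨M, hM, hle⟩
    · exact h
    exfalso
    haveI : M.Normal := Subgroup.NormalizerCondition.normal_of_coatom M Group.normalizerCondition_of_isNilpotent hM
    refine hM.1 (eq_top_iff.2 fun x _ => ?_)
    rcases hcentral x with h | ⟨u, hu⟩
    · exact hle (le_sup_right (a := C) h)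
    · have := (inferInstance : M.Normal).conj_mem _ (hle (le_sup_left (b := Z) hu)) u⁻¹
      rwa [show u⁻¹ * (u * x * u⁻¹) * u⁻¹⁻¹ = x by group] at this
  have hnon : ∀ x, x ∉ Z → x ∈ C := by
    intro x hx
    obtain ⟨u, hu⟩ := (hcentral x).resolve_left hx
    obtain ⟨c, hc, z, hz, hcz⟩ := Subgroup.mem_sup_of_normal_right.1 (htop.ge (Subgroup.mem_top u⁻¹))
    have hzc : ∀ w, w * z = z * w := Subgroup.mem_center_iff.1 hz
    have e : x = c * (u * x * u⁻¹) * c⁻¹ := by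
      have h1 : c * (u * x * u⁻¹) * c⁻¹ = c * z * (u * x * u⁻¹) * (c * z)⁻¹ := by
        rw [mul_assoc c z, ← hzc]; group
      rw [h1, hcz]; group
    rw [e]
    exact C.mul_mem (C.mul_mem hc hu) (C.inv_mem hc)
  obtain ⟨x0, hx0⟩ : ∃ x0 : ↥(Q : Subgroup G), x0 ∉ Z := by
    by_contra hc
    push Not at hc
    exact hna fun x hx y hy => (congrArg Subtype.val (Subgroup.mem_center_iff.1 (hc ⟨x, hx⟩) ⟨y, hy⟩)).symm
  have hall : ∀ x, x ∈ C := by
    intro x
    by_cases hx : x ∈ Z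
    · have h1 : x0 * x ∉ Z := fun h => hx0 (by simpa using Z.mul_mem h (Z.inv_mem hx))
      simpa using C.mul_mem (C.inv_mem (hnon x0 hx0)) (hnon _ h1)
    · exact hnon x hx
  intro x hx
  exact (mem_cent.1 (Subgroup.mem_subgroupOf.1 (hall ⟨x, hx⟩))).symm

theorem dvd_prime_pow_eq {r s i j : ℕ} (hr : r.Prime) (hs : s.Prime) (hrs : r ≠ s) (h : s ^ j ∣ r ^ i) : j = 0 := by
  by_contra hj
  exact hrs ((Nat.prime_dvd_prime_iff_eq hs hr).1 (hs.dvd_of_dvd_pow ((dvd_pow_self s hj).trans h))).symm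

/-- Two commuting elements with classes of sizes powers of different primes. -/
theorem two_prime {x y : G} {r s t i j k : ℕ} (hr : r.Prime) (hs : s.Prime) (ht : t.Prime)
    (hrs : r ≠ s) (hts : t ≠ s) (hrq : r ≠ q) (hy : IsPElem q y)
    (hxi : (cent x).index = r ^ i) (hyj : (cent y).index = s ^ j) (hk : (cent (x * y)).index = t ^ k) : j = 0 := by
  classical
  have hxyc := fun u : G => CoprimeTop.exists_mul_of_coprime (H := cent x) (K := cent y) (by rw [hxi, hyj]; exact ((Nat.coprime_primes hr hs).2 hrs).pow i j) u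
  have hyzc := fun u : G => CoprimeTop.exists_mul_of_coprime (H := cent y) (K := cent (x * y))
    (by rw [hk, hyj]; exact ((Nat.coprime_primes hs ht).2 (Ne.symm hts)).pow j k) u
  set X : Set G := Set.range fun g : G => g * x * g⁻¹ with hX
  -- the class of `x` is stable under the differences of the conjugates of `y`
  have hstep : ∀ g : G, ∀ v ∈ X, v * (g * y * g⁻¹ * y⁻¹) ∈ X := by
    rintro g _ ⟨a, rfl⟩
    obtain ⟨c, hc, d, hd, hcd⟩ := hxyc (a⁻¹ * g)
    have h1 : g * y * g⁻¹ = a * c * y * (a * c)⁻¹ := by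
      have hdy : d * y = y * d := mem_cent.1 hd
      rw [show g = a * (c * d) by rw [← hcd]; group]
      calc a * (c * d) * y * (a * (c * d))⁻¹ = a * c * (d * y) * d⁻¹ * (a * c)⁻¹ := by group
        _ = _ := by rw [hdy]; group
    have h2 : a * x * a⁻¹ = a * c * x * (a * c)⁻¹ := by
      have hcx : c * x = x * c := mem_cent.1 hc
      calc a * x * a⁻¹ = a * (x * c) * c⁻¹ * a⁻¹ := by group
        _ = _ := by rw [← hcx]; group
    obtain ⟨e, he, f, hf, hef⟩ := hyzc (a * c)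
    refine ⟨e, ?_⟩
    show e * x * e⁻¹ = a * x * a⁻¹ * (g * y * g⁻¹ * y⁻¹)
    have hey : e * y = y * e := mem_cent.1 he
    have hfz : f * (x * y) = x * y * f := mem_cent.1 hf
    rw [h1, h2, hef]
    calc e * x * e⁻¹ = e * (x * y * f) * f⁻¹ * y⁻¹ * e⁻¹ := by group
      _ = e * f * (x * y) * f⁻¹ * (y⁻¹ * e⁻¹) := by rw [← hfz]; group
      _ = e * f * (x * y) * f⁻¹ * (e * y)⁻¹ := by group
      _ = e * f * (x * y) * f⁻¹ * (y * e)⁻¹ := by rw [hey]
      _ = _ := by group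
  set W := Subgroup.closure (Set.range fun g : G => g * y * g⁻¹ * y⁻¹) with hW
  have hXW : ∀ w ∈ W, ∀ v ∈ X, v * w ∈ X := by
    intro w hw
    induction hw using Subgroup.closure_induction with
    | mem w hw => obtain ⟨g, rfl⟩ := hw; exact hstep g
    | one => intro v hv; rwa [mul_one]
    | mul a c _ _ ha hc => intro v hv; rw [← mul_assoc]; exact hc _ (ha v hv)
    | inv a _ ha =>
      intro v hv
      have hinj : Function.Injective fun v : X => (⟨v * a, ha v v.2⟩ : X) := fun b c h =>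
        Subtype.ext (mul_right_cancel (congrArg Subtype.val h))
      obtain ⟨⟨b, hb⟩, hb2⟩ := Finite.surjective_of_injective hinj ⟨v, hv⟩
      have h2 : b * a = v := congrArg Subtype.val hb2
      rwa [show v * a⁻¹ = b by rw [← h2, mul_inv_cancel_right]]
  haveI hWn : W.Normal := by
    refine ⟨fun n hn t => ?_⟩
    induction hn using Subgroup.closure_induction with
    | mem w hw =>
      obtain ⟨g, rfl⟩ := hw
      rw [show t * (g * y * g⁻¹ * y⁻¹) * t⁻¹ =
        (t * g * y * (t * g)⁻¹ * y⁻¹) * (t * y * t⁻¹ * y⁻¹)⁻¹ by group]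
      exact W.mul_mem (Subgroup.subset_closure ⟨_, rfl⟩) (W.inv_mem (Subgroup.subset_closure ⟨_, rfl⟩))
    | one => simp
    | mul a c _ _ ha hc =>
      rw [show t * (a * c) * t⁻¹ = t * a * t⁻¹ * (t * c * t⁻¹) by group]
      exact mul_mem ha hc
    | inv a _ ha =>
      rw [show t * a⁻¹ * t⁻¹ = (t * a * t⁻¹)⁻¹ by group]
      exact inv_mem ha
  -- `W` is an `r`-group
  have hdiv : Nat.card W ∣ r ^ i := by
    have hpre : QuotientGroup.mk ⁻¹' ((fun v : G => (v : G ⧸ W)) '' X) = X := by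
      refine Set.Subset.antisymm ?_ (Set.subset_preimage_image _ _)
      rintro v ⟨b, hb, hbv⟩
      rw [← mul_inv_cancel_left b v]
      exact hXW _ (QuotientGroup.eq.1 hbv) b hb
    have h1 := Nat.card_congr (QuotientGroup.preimageMkEquivSubgroupProdSet W ((fun v : G => (v : G ⧸ W)) '' X))
    rw [hpre, Nat.card_prod] at h1
    have h2 : Nat.card X = r ^ i := by
      rw [← hxi, ← ClassSize.index_centralizer_eq_ncard x, ← Nat.card_coe_set_eq]
      refine Nat.card_congr (Equiv.subtypeEquivRight fun v => ?_)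
      rw [ConjClasses.mem_carrier_iff_mk_eq, ConjClasses.mk_eq_mk_iff_isConj, isConj_comm, isConj_iff]
      exact ⟨fun ⟨g, hg⟩ => ⟨g, hg⟩, fun ⟨g, hg⟩ => ⟨g, hg⟩⟩
    exact ⟨_, h2.symm.trans h1⟩
  have hWq : ¬ q ∣ Nat.card W := fun h =>
    hrq ((Nat.prime_dvd_prime_iff_eq hq.out hr).1 (hq.out.dvd_of_dvd_pow (h.trans hdiv))).symm
  -- the conjugates of `y` are conjugate under `W`
  have hconj : ∀ g : G, ∃ w ∈ W, ∃ c ∈ cent y, g = w * c := by
    intro g
    set y' := g * y * g⁻¹ with hy'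
    have hmem : ∀ u : W, y * (u : G) * y'⁻¹ ∈ W := fun u => by
      rw [show y * (u : G) * y'⁻¹ = y * u * y⁻¹ * (y' * y⁻¹)⁻¹ by group]
      exact W.mul_mem (hWn.conj_mem _ u.2 y) (W.inv_mem (Subgroup.subset_closure ⟨g, rfl⟩))
    have hinj : Function.Injective fun u : W => (⟨y * u * y'⁻¹, hmem u⟩ : W) := fun a b h =>
      Subtype.ext (mul_left_cancel (mul_right_cancel (congrArg Subtype.val h)))
    let σ : Equiv.Perm W := Equiv.ofBijective _ (Finite.injective_iff_bijective.1 hinj)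
    have hσ : ∀ (n : ℕ) (u : W), (((σ ^ n) u : W) : G) = y ^ n * u * (y' ^ n)⁻¹ := by
      intro n u
      induction n with
      | zero => simp
      | succ n ih =>
        rw [pow_succ' σ, Equiv.Perm.mul_apply]
        show y * (((σ ^ n) u : W) : G) * y'⁻¹ = _
        rw [ih, pow_succ' y, pow_succ y']
        group
    obtain ⟨m, hm⟩ := hy
    have hm' : y' ^ q ^ m = 1 := by rw [hy', conj_pow, hm, mul_one, mul_inv_cancel]
    haveI : Fintype W := Fintype.ofFinite _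
    obtain ⟨u, hu⟩ := Equiv.Perm.exists_fixed_point_of_prime (p := q) (n := m) (σ := σ)
      (by rwa [Nat.card_eq_fintype_card] at hWq)
      (Equiv.ext fun u => Subtype.ext (by rw [hσ, hm, hm', one_mul, inv_one, mul_one]; rfl))
    have hu' : y * (u : G) * y'⁻¹ = u := congrArg Subtype.val hu
    refine ⟨(u : G)⁻¹, W.inv_mem u.2, (u : G) * g, mem_cent.2 ?_, by group⟩
    calc (u : G) * g * y = (u * y') * g := by rw [hy']; group
      _ = (y * u * y'⁻¹ * y') * g := by rw [hu']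
      _ = y * (u * g) := by group
  have hjd : s ^ j ∣ Nat.card W := by
    rw [← hyj]
    have hf : Function.Surjective fun w : W => ((w : G) : G ⧸ cent y) := by
      intro c
      obtain ⟨g, rfl⟩ := QuotientGroup.mk_surjective c
      obtain ⟨w, hw, c, hc, rfl⟩ := hconj g
      exact ⟨⟨w, hw⟩, (QuotientGroup.mk_mul_of_mem w hc).symm⟩
    have : (cent y).relIndex W = (cent y).index := by
      refine le_antisymm ?_ ?_
      · exact Nat.le_of_dvd (Nat.pos_of_ne_zero Subgroup.index_ne_zero_of_finite)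
          (OrbitSolvable.relIndex_dvd_of_normal (cent y) W)
      · rw [Subgroup.relIndex, Subgroup.index_eq_card, Subgroup.index_eq_card]
        refine Nat.card_le_card_of_surjective (Quotient.lift (fun w : W => ((w : G) : G ⧸ cent y)) ?_) ?_
        · intro a b hab
          exact QuotientGroup.eq.2 (QuotientGroup.leftRel_apply (s := (cent y).subgroupOf W).1 hab)
        · intro c
          obtain ⟨w, hw⟩ := hf c
          exact ⟨QuotientGroup.mk w, hw⟩
    rw [← this]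
    exact Subgroup.relIndex_dvd_card (cent y) W
  exact dvd_prime_pow_eq hr hs hrs (hjd.trans hdiv)

theorem mem_comap_core [hK : (Cfsg.pPrimeCore q G).Normal] {x : G} (hx : IsPElem q x) {r a : ℕ} (hr : r.Prime)
    (hidx : (cent x).index = r ^ a) :
    x ∈ (Cfsg.pCore q (G ⧸ Cfsg.pPrimeCore q G)).comap (QuotientGroup.mk' (Cfsg.pPrimeCore q G)) := by
  rw [Subgroup.mem_comap]
  by_cases hrq : r = q
  · subst hrq
    exact PCore.map_pCore_le _ (QuotientGroup.mk'_surjective _) ⟨x, mem_pCore_self hx hidx, rfl⟩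
  haveI := Fact.mk hr
  haveI : (Cfsg.pCore r G).Normal := Subgroup.sSup_normal _ (fun _ h => h.1)
  obtain ⟨m, hm⟩ := IsPGroup.iff_card.1 (PCore.isPGroup_pCore r G)
  have hle : Cfsg.pCore r G ≤ Cfsg.pPrimeCore q G :=
    PCore.le_pPrimeCore inferInstance (by rw [hm]; exact Nat.Coprime.pow_left m ((Nat.coprime_primes hr hq.out).2 hrq))
  set f : G ⧸ Cfsg.pCore r G →* G ⧸ Cfsg.pPrimeCore q G :=
    QuotientGroup.map _ _ (MonoidHom.id G) (by simpa using hle)
  have hf : Function.Surjective f := by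
    intro c
    obtain ⟨g, rfl⟩ := QuotientGroup.mk'_surjective _ c
    exact ⟨QuotientGroup.mk' _ g, rfl⟩
  exact PCore.map_pCore_le f hf ⟨_, image_mem_pCore hx hidx, rfl⟩

theorem mem_of_centralises (Q : Sylow q G) {y : G} (hy : IsPElem q y) (hc : ∀ v ∈ Q, v * y = y * v) : y ∈ Q := by
  have hn : Subgroup.zpowers y ≤ Subgroup.normalizer ((Q : Subgroup G) : Set G) := by
    rw [Subgroup.zpowers_le, Subgroup.mem_normalizer_iff]
    intro v
    refine ⟨fun hv => ?_, fun hv => ?_⟩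
    · rwa [← hc v hv, mul_inv_cancel_right]
    · have h1 := hc _ hv
      rw [show y * v * y⁻¹ * y = y * v by group, show y * (y * v * y⁻¹) = y * (y * v * y⁻¹) from rfl,
        mul_right_inj] at h1
      rwa [← h1] at hv
  exact (Q.3 ((isPGroup_zpowers hy).to_sup_of_normal_right' Q.2 hn) le_sup_right).le
    (le_sup_left (b := (Q : Subgroup G)) (Subgroup.mem_zpowers y))

theorem not_dvd_index_cent_of_commutes (Q : Sylow q G) {x : G} (hc : ∀ v ∈ Q, v * x = x * v) :
    ¬ q ∣ (cent x).index :=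
  fun h => Q.not_dvd_index (h.trans (Subgroup.index_dvd_of_le fun v hv => mem_cent.2 (hc v hv)))

theorem all_q (Q : Sylow q G) (hall : ∀ x : G, IsPElem q x → ∃ a, (cent x).index = q ^ a) :
    (Q : Subgroup G).Normal ∧ ∃ N : Subgroup G, N.Normal ∧ N.IsComplement' (Q : Subgroup G) := by
  haveI hn : (Cfsg.pCore q G).Normal := Subgroup.sSup_normal _ (fun _ h => h.1)
  have hQO : (Q : Subgroup G) = Cfsg.pCore q G := le_antisymm
    (fun x hx => (hall x (isPElem_of_mem Q.2 hx)).elim fun a ha => mem_pCore_self (isPElem_of_mem Q.2 hx) ha)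
    (PCore.pCore_le_sylow Q)
  haveI hQn : (Q : Subgroup G).Normal := hQO ▸ hn
  have hcom : ∀ (g : G) (s : ℕ), s.Prime → s ≠ q → IsPElem s g → ∀ x ∈ Q, g * x = x * g := by
    intro g s hs hsq hg x hx
    by_cases hab : ∀ a ∈ Q, ∀ b ∈ Q, a * b = b * a
    · obtain ⟨a, ha⟩ := hall x (isPElem_of_mem Q.2 hx)
      have ha0 : a = 0 := by
        by_contra h
        exact not_dvd_index_cent_of_commutes Q (fun v hv => hab v hv x hx) (ha ▸ dvd_pow_self q h)
      rw [ha0, pow_zero, Subgroup.index_eq_one] at ha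
      exact mem_cent.1 (ha.ge (Subgroup.mem_top g))
    · exact centralises_of_cover Q hab (fun y hy => Or.inr (hall y (isPElem_of_mem Q.2 hy))) hs hsq hg x hx
  obtain ⟨S, hS⟩ := Subgroup.exists_right_complement'_of_coprime (N := (Q : Subgroup G)) Q.card_coprime_index
  have hScard : ¬ q ∣ Nat.card S := by
    have h := hS.symm.index_eq_card
    rw [← h]
    exact Q.not_dvd_index
  have hSQ : ∀ t ∈ S, ∀ x ∈ Q, t * x = x * t := by
    intro t ht x hx
    refine mem_cent.1 (mem_of_parts fun s hs k hk => mem_cent.2 ?_)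
    by_cases hsq : s = q
    · subst hsq
      obtain ⟨n, hn⟩ := hk
      have h1 : orderOf (t ^ k) ∣ Nat.card S := Subgroup.orderOf_dvd_natCard S (S.pow_mem ht k)
      obtain ⟨j, -, hj⟩ := (Nat.dvd_prime_pow hs).1 (orderOf_dvd_of_pow_eq_one hn)
      have hj0 : j = 0 := by
        by_contra h
        exact hScard ((dvd_pow_self _ h).trans (hj ▸ h1))
      rw [hj0, pow_zero, orderOf_eq_one_iff] at hj
      rw [hj, one_mul, mul_one]
    · exact hcom _ s hs hsq hk x hx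
  refine ⟨hQn, S, ⟨fun t ht g => ?_⟩, hS.symm⟩
  obtain ⟨u, hu, w, hw, rfl⟩ := Subgroup.mem_sup_of_normal_left.1 (hS.sup_eq_top.ge (Subgroup.mem_top g))
  have h1 : w * t * w⁻¹ ∈ S := S.mul_mem (S.mul_mem hw ht) (S.inv_mem hw)
  have h2 := hSQ _ h1 u⁻¹ ((Q : Subgroup G).inv_mem hu)
  rwa [show u * w * t * (u * w)⁻¹ = u * (w * t * w⁻¹ * u⁻¹) by group, h2, mul_inv_cancel_left]

theorem mixed (Q : Sylow q G) [hK : (Cfsg.pPrimeCore q G).Normal]
    (hB : ∀ x : G, IsPElem q x → ∃ r a, r.Prime ∧ (cent x).index = r ^ a) {x0 : G} (hx0 : IsPElem q x0) {r a : ℕ}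
    (hr : r.Prime) (hrq : r ≠ q) (ha : a ≠ 0) (hidx : (cent x0).index = r ^ a) :
    (∀ x ∈ Q, ∀ y ∈ Q, x * y = y * x) ∧ ∀ x : G, IsPElem q x → ∃ b, (cent x).index = r ^ b := by
  set K := Cfsg.pPrimeCore q G with hKdef
  have hQL : (Q : Subgroup G) ≤ (Cfsg.pCore q (G ⧸ K)).comap (QuotientGroup.mk' K) := fun x hx => by
    obtain ⟨s, b, hs, hb⟩ := hB x (isPElem_of_mem Q.2 hx)
    exact mem_comap_core (isPElem_of_mem Q.2 hx) hs hb
  obtain ⟨hL, -, -⟩ := comap_eq_sup K Q hQL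
  have hLn : (K ⊔ (Q : Subgroup G)).Normal := by
    rw [← hL]
    haveI : (Cfsg.pCore q (G ⧸ K)).Normal := Subgroup.sSup_normal _ (fun _ h => h.1)
    infer_instance
  -- index prime to `q` forces centrality in `Q`
  have hcen : ∀ x ∈ Q, ¬ q ∣ (cent x).index → ∀ v ∈ Q, x * v = v * x := by
    intro x hx hx'
    obtain ⟨h, hh⟩ := exists_sylow_le hx' Q
    have h1 : (Q : Subgroup G) ≤ K ⊔ (Q : Subgroup G) := le_sup_right
    have h2 : ((h • Q : Sylow q G) : Subgroup G) ≤ K ⊔ (Q : Subgroup G) := by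
      rw [Sylow.coe_subgroup_smul]
      intro v hv
      rw [mem_conj_smul_iff] at hv
      have := hLn.conj_mem _ (h1 hv) h
      rwa [show h * (h⁻¹ * v * h) * h⁻¹ = v by group] at this
    obtain ⟨⟨l, hl⟩, hl2⟩ := MulAction.exists_smul_eq ↥(K ⊔ (Q : Subgroup G)) (Q.subtype h1) ((h • Q).subtype h2)
    obtain ⟨k, hk, u, hu, rfl⟩ := Subgroup.mem_sup_of_normal_left.1 hl
    have hkQ : ∀ v ∈ Q, k * v * k⁻¹ ∈ cent x := by
      intro v hv
      refine hh ?_
      have h3 : (⟨k * v * k⁻¹, (K ⊔ (Q : Subgroup G)).mul_mem ((K ⊔ (Q : Subgroup G)).mul_mem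
          (Subgroup.mem_sup_left hk) (h1 hv)) ((K ⊔ (Q : Subgroup G)).inv_mem (Subgroup.mem_sup_left hk))⟩ :
          ↥(K ⊔ (Q : Subgroup G))) ∈ (((h • Q).subtype h2 : Sylow q ↥(K ⊔ (Q : Subgroup G))) :
            Subgroup ↥(K ⊔ (Q : Subgroup G))) := by
        rw [← hl2, Sylow.coe_subgroup_smul, mem_conj_smul_iff]
        show (k * u)⁻¹ * (k * v * k⁻¹) * (k * u) ∈ (Q : Subgroup G)
        rw [show (k * u)⁻¹ * (k * v * k⁻¹) * (k * u) = u⁻¹ * v * u by group]
        exact (Q : Subgroup G).mul_mem ((Q : Subgroup G).mul_mem ((Q : Subgroup G).inv_mem hu) hv) hu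
      exact h3
    have hy : ∀ v ∈ Q, v * (k⁻¹ * x * k) = k⁻¹ * x * k * v := fun v hv => by
      have h4 := mem_cent.1 (hkQ v hv)
      calc v * (k⁻¹ * x * k) = k⁻¹ * (k * v * k⁻¹ * x) * k := by group
        _ = k⁻¹ * (x * (k * v * k⁻¹)) * k := by rw [h4]
        _ = _ := by group
    have hyQ : k⁻¹ * x * k ∈ Q :=
      mem_of_centralises Q (by simpa using (isPElem_of_mem Q.2 hx).conj k⁻¹) hy
    have h5 : x⁻¹ * (k⁻¹ * x * k) ∈ (Q : Subgroup G) ⊓ K := by
      refine ⟨(Q : Subgroup G).mul_mem ((Q : Subgroup G).inv_mem hx) hyQ, ?_⟩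
      rw [← mul_assoc, ← mul_assoc]
      refine K.mul_mem ?_ hk
      have := hK.conj_mem _ (K.inv_mem hk) x⁻¹
      rwa [inv_inv] at this
    rw [PCore.inf_eq_bot_of_isPGroup_of_coprime Q.2 (PCore.pPrimeCore_coprime q G), Subgroup.mem_bot,
      inv_mul_eq_one] at h5
    intro v hv
    rw [h5]
    exact (hy v hv).symm
  have hdich : ∀ x ∈ Q, (∀ v ∈ Q, x * v = v * x) ∨ x ∈ Cfsg.pCore q G ∧ ∃ b, (cent x).index = q ^ b := by
    intro x hx
    obtain ⟨s, b, hs, hb⟩ := hB x (isPElem_of_mem Q.2 hx)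
    by_cases hsq : s = q
    · subst hsq
      exact Or.inr ⟨mem_pCore_self (isPElem_of_mem Q.2 hx) hb, b, hb⟩
    · exact Or.inl (hcen x hx fun h => hsq ((Nat.prime_dvd_prime_iff_eq hq.out hs).1
        (hq.out.dvd_of_dvd_pow (hb ▸ h))).symm)
  obtain ⟨g0, hg0⟩ := exists_conj_mem Q hx0
  have hidx' : (cent (g0 * x0 * g0⁻¹)).index = r ^ a := by rw [index_cent_conj]; exact hidx
  have hx0' : ∀ v ∈ Q, g0 * x0 * g0⁻¹ * v = v * (g0 * x0 * g0⁻¹) :=
    hcen _ hg0 fun h => hrq ((Nat.prime_dvd_prime_iff_eq hq.out hr).1 (hq.out.dvd_of_dvd_pow (hidx' ▸ h))).symm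
  have hab : ∀ x ∈ Q, ∀ y ∈ Q, x * y = y * x := by
    by_contra hna
    have hQO : (Q : Subgroup G) ≤ Cfsg.pCore q G := by
      intro b hb
      by_contra hbO
      refine hna fun x hx y hy => ?_
      have key : ∀ z ∈ Q, ∀ v ∈ Q, z * v = v * z := by
        intro z hz
        rcases hdich z hz with h | ⟨hzO, -⟩
        · exact h
        have hbc := (hdich b hb).resolve_right (fun h => hbO h.1)
        have hbz := (hdich _ ((Q : Subgroup G).mul_mem hb hz)).resolve_right fun h => hbO (by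
          simpa using (Cfsg.pCore q G).mul_mem h.1 ((Cfsg.pCore q G).inv_mem hzO))
        intro v hv
        have e1 : z = b⁻¹ * (b * z) := by group
        calc z * v = b⁻¹ * (b * z * v) := by group
          _ = b⁻¹ * (v * (b * z)) := by rw [hbz v hv]
          _ = b⁻¹ * (v * b) * z := by group
          _ = b⁻¹ * (b * v) * z := by rw [hbc v hv]
          _ = v * z := by group
      exact key x hx y hy
    haveI hn : (Cfsg.pCore q G).Normal := Subgroup.sSup_normal _ (fun _ h => h.1)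
    haveI : (Q : Subgroup G).Normal := (le_antisymm hQO (PCore.pCore_le_sylow Q)) ▸ hn
    have htop : cent (g0 * x0 * g0⁻¹) = ⊤ := by
      refine eq_top_iff.2 fun t _ => mem_of_parts fun s hs k hk => mem_cent.2 ?_
      by_cases hsq : s = q
      · subst hsq
        obtain ⟨g, hg⟩ := exists_conj_mem Q hk
        have h6 := (inferInstance : (Q : Subgroup G).Normal).conj_mem _ hg g⁻¹
        rw [show g⁻¹ * (g * t ^ k * g⁻¹) * g⁻¹⁻¹ = t ^ k by group] at h6
        exact (hx0' _ h6).symm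
      · exact centralises_of_cover Q hna (fun y hy => (hdich y hy).imp id And.right) hs hsq hk _ hg0
    rw [htop, Subgroup.index_top] at hidx'
    exact ha ((Nat.pow_eq_one.1 hidx'.symm).resolve_left hr.ne_one)
  refine ⟨hab, fun x hx => ?_⟩
  obtain ⟨g, hg⟩ := exists_conj_mem Q hx
  obtain ⟨s, b, hs, hb⟩ := hB _ (isPElem_of_mem Q.2 hg)
  rw [index_cent_conj] at hb
  by_cases hb0 : b = 0
  · exact ⟨0, by rw [hb, hb0, pow_zero, pow_zero]⟩
  refine ⟨b, ?_⟩
  rw [hb]
  suffices h : s = r by rw [h]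
  by_contra hsr
  have hsq : s ≠ q := fun h => not_dvd_index_cent_of_commutes Q (fun v hv => hab v hv _ hg)
    (by rw [index_cent_conj, hb, h]; exact dvd_pow_self q hb0)
  set x1 := g0 * x0 * g0⁻¹ with hx1
  set y1 := g * x * g⁻¹ with hy1
  have hy1i : (cent y1).index = s ^ b := by rw [hy1, index_cent_conj]; exact hb
  obtain ⟨t, c, ht, hc⟩ := hB _ (isPElem_of_mem Q.2 ((Q : Subgroup G).mul_mem hg0 hg))
  by_cases hts : t = s
  · have hc' : (cent (y1 * x1)).index = t ^ c := by rw [hab _ hg _ hg0]; exact hc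
    exact ha (two_prime (x := y1) (y := x1) hs hr ht hsr (hts ▸ hsr) hsq (isPElem_of_mem Q.2 hg0) hy1i hidx' hc')
  · exact hb0 (two_prime (x := x1) (y := y1) hr hs ht (Ne.symm hsr) hts hrq (isPElem_of_mem Q.2 hg) hidx' hy1i hc)

theorem sup_normal {p : ℕ} [Fact p.Prime] (Q : Sylow q G) (h : ∀ x : G, IsPElem q x → ∃ b, (cent x).index = p ^ b) :
    (Cfsg.pCore p G ⊔ (Q : Subgroup G)).Normal := by
  haveI : (Cfsg.pCore p G).Normal := Subgroup.sSup_normal _ (fun _ h => h.1)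
  haveI : (Cfsg.pCore q (G ⧸ Cfsg.pCore p G)).Normal := Subgroup.sSup_normal _ (fun _ h => h.1)
  obtain ⟨hL, -, -⟩ := comap_eq_sup (Cfsg.pCore p G) Q fun x hx =>
    (h x (isPElem_of_mem Q.2 hx)).elim fun b hb => image_mem_pCore (isPElem_of_mem Q.2 hx) hb
  rw [← hL]
  infer_instance

theorem solvable_quotient {p : ℕ} [Fact p.Prime] (Q : Sylow q G) [hK : (Cfsg.pPrimeCore q G).Normal]
    (hab : ∀ x ∈ Q, ∀ y ∈ Q, x * y = y * x) (h : ∀ x : G, IsPElem q x → ∃ b, (cent x).index = p ^ b) :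
    Group.IsSolvable (G ⧸ Cfsg.pPrimeCore q G) := by
  set π := QuotientGroup.mk' (Cfsg.pPrimeCore q G) with hπ
  have hπs : Function.Surjective π := QuotientGroup.mk'_surjective _
  have hQL : (Q : Subgroup G) ≤ (Cfsg.pCore q (G ⧸ Cfsg.pPrimeCore q G)).comap π := fun x hx => by
    obtain ⟨b, hb⟩ := h x (isPElem_of_mem Q.2 hx)
    exact mem_comap_core (isPElem_of_mem Q.2 hx) Fact.out hb
  obtain ⟨hL, -, hLidx⟩ := comap_eq_sup _ Q hQL
  set W := Cfsg.pCore q (G ⧸ Cfsg.pPrimeCore q G) with hW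
  haveI hWn : W.Normal := Subgroup.sSup_normal _ (fun _ h => h.1)
  have hWidx : ¬ q ∣ W.index := by
    rw [← Subgroup.index_comap_of_surjective W hπs, hL]
    exact hLidx
  have hlift : ∀ w ∈ W, ∃ x ∈ Q, π x = w := by
    intro w hw
    obtain ⟨g, rfl⟩ := hπs w
    obtain ⟨k, hk, x, hx, rfl⟩ := Subgroup.mem_sup_of_normal_left.1 (hL.le (Subgroup.mem_comap.2 hw))
    exact ⟨x, hx, by rw [map_mul, show π k = 1 from (QuotientGroup.eq_one_iff k).2 hk, one_mul]⟩
  have hWab : ∀ v ∈ W, ∀ w ∈ W, v * w = w * v := by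
    intro v hv w hw
    obtain ⟨x, hx, rfl⟩ := hlift v hv
    obtain ⟨y, hy, rfl⟩ := hlift w hw
    rw [← map_mul, hab x hx y hy, map_mul]
  letI : CommGroup ↥W :=
    { (inferInstance : Group ↥W) with mul_comm := fun v w => Subtype.ext (hWab _ v.2 _ w.2) }
  let toLin : MulAut ↥W →* (Additive ↥W ≃ₗ[ℤ] Additive ↥W) :=
    MonoidHom.mk' (fun e => (MulEquiv.toAdditive e).toIntLinearEquiv) fun a b => LinearEquiv.ext fun x => rfl
  let ρ : (G ⧸ Cfsg.pPrimeCore q G) →* (Additive ↥W ≃ₗ[ℤ] Additive ↥W) := toLin.comp MulAut.conjNormal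
  have hρ : ∀ (a : G ⧸ Cfsg.pPrimeCore q G) (w : ↥W),
      ((Additive.toMul (ρ a (Additive.ofMul w)) : ↥W) : G ⧸ Cfsg.pPrimeCore q G) = a * w * a⁻¹ :=
    fun a w => MulAut.conjNormal_apply a w
  -- the kernel is `W`
  have hkerW : ρ.ker ≤ W := by
    haveI : (ρ.ker).Normal := inferInstance
    set W' : Subgroup ↥ρ.ker := W.subgroupOf ρ.ker with hW'
    have hcen : ∀ (c : ↥ρ.ker), ∀ w ∈ W, (c : G ⧸ Cfsg.pPrimeCore q G) * w = w * c := by
      intro c w hw
      have h1 := hρ c ⟨w, hw⟩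
      rw [(MonoidHom.mem_ker.1 c.2)] at h1
      exact eq_mul_inv_iff_mul_eq.1 h1 |>.symm
    have hcop : (Nat.card W').Coprime W'.index := by
      have h1 : Nat.card W' ∣ Nat.card W := PCore.card_subgroupOf_dvd W ρ.ker
      have h2 : W'.index ∣ W.index := Subgroup.relIndex_dvd_index_of_normal W ρ.ker
      refine Nat.Coprime.coprime_dvd_left h1 (Nat.Coprime.coprime_dvd_right h2 ?_)
      obtain ⟨m, hm⟩ := IsPGroup.iff_card.1 (PCore.isPGroup_pCore q (G ⧸ Cfsg.pPrimeCore q G))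
      rw [hW, hm]
      exact Nat.Coprime.pow_left m (hq.out.coprime_iff_not_dvd.2 hWidx)
    obtain ⟨T, hT⟩ := Subgroup.exists_right_complement'_of_coprime hcop
    have hTn : T.Normal := by
      refine ⟨fun t ht g => ?_⟩
      obtain ⟨u, hu, w, hw, rfl⟩ := Subgroup.mem_sup_of_normal_left.1 (hT.sup_eq_top.ge (Subgroup.mem_top g))
      have h1 : w * t * w⁻¹ ∈ T := T.mul_mem (T.mul_mem hw ht) (T.inv_mem hw)
      have h2 : u * (w * t * w⁻¹) = w * t * w⁻¹ * u :=
        Subtype.ext (hcen (w * t * w⁻¹) _ (Subgroup.mem_subgroupOf.1 hu)).symm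
      rwa [show u * w * t * (u * w)⁻¹ = u * (w * t * w⁻¹) * u⁻¹ by group, h2, mul_inv_cancel_right]
    have hTq : ¬ q ∣ Nat.card T := by
      rw [← hT.symm.index_eq_card]
      exact fun h => hWidx (h.trans (Subgroup.relIndex_dvd_index_of_normal W ρ.ker))
    have hT0 : T = ⊥ := by
      have h1 := PCore.le_pPrimeCore_of_not_dvd (p := q) hTn hTq
      have h2 := (PCore.map_pPrimeCore_normal (p := q) ρ.ker).le
      rw [PCore.pPrimeCore_quotient, bot_inf_eq] at h2
      rw [eq_bot_iff]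
      intro t ht
      exact Subgroup.mem_bot.2 (Subtype.ext (Subgroup.mem_bot.1 (h2 ⟨t, h1 ht, rfl⟩)))
    intro g hg
    have h1 := hT.sup_eq_top.ge (Subgroup.mem_top (⟨g, hg⟩ : ↥ρ.ker))
    rw [hT0, sup_bot_eq] at h1
    exact Subgroup.mem_subgroupOf.1 h1
  have hWker : W ≤ ρ.ker := by
    intro g hg
    refine MonoidHom.mem_ker.2 (LinearEquiv.ext fun x => ?_)
    refine Additive.toMul.injective (Subtype.ext ((hρ g (Additive.toMul x)).trans ?_))
    rw [hWab g hg _ (Additive.toMul x).2, mul_inv_cancel_right]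
    rfl
  obtain ⟨m, hm⟩ := IsPGroup.iff_card.1 (PCore.isPGroup_pCore q (G ⧸ Cfsg.pPrimeCore q G))
  have hsA : Group.IsSolvable ((G ⧸ Cfsg.pPrimeCore q G) ⧸ ρ.ker) := by
    refine OrbitSolvable.solvable (p := p) (q := q) (M := Additive ↥W) ⟨m, ?_⟩ ?_ (QuotientGroup.kerLift ρ)
      (QuotientGroup.kerLift_injective ρ) fun v => ?_
    · rw [← hm]; exact Nat.card_congr Additive.toMul
    · rw [← Subgroup.index_eq_card]
      exact fun h => hWidx (h.trans (Subgroup.index_dvd_of_le hWker))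
    · obtain ⟨x, hx, hxv⟩ := hlift _ (Additive.toMul v).2
      obtain ⟨b, hb⟩ := h x (isPElem_of_mem Q.2 hx)
      have h1 : ((cent x).map π).map (QuotientGroup.mk' ρ.ker) ≤ OrbitSolvable.zstab (QuotientGroup.kerLift ρ) v := by
        rintro _ ⟨_, ⟨c, hc, rfl⟩, rfl⟩
        refine Additive.toMul.injective (Subtype.ext ((hρ (π c) (Additive.toMul v)).trans ?_))
        rw [← hxv, ← map_inv, ← map_mul, ← map_mul, mem_cent.1 hc, mul_inv_cancel_right]
      have h2 := ((Subgroup.index_dvd_of_le h1).trans (Subgroup.index_map_dvd _ (QuotientGroup.mk'_surjective ρ.ker))).trans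
        (Subgroup.index_map_dvd (cent x) hπs)
      rw [hb] at h2
      obtain ⟨j, -, hj⟩ := (Nat.dvd_prime_pow (Fact.out : p.Prime)).1 h2
      exact ⟨j, hj⟩
  have hsK : Group.IsSolvable ↥ρ.ker := by
    have : IsMulCommutative ↥ρ.ker :=
      ⟨⟨fun v w => Subtype.ext (hWab _ (hkerW v.2) _ (hkerW w.2))⟩⟩
    exact Group.isSolvable_of_comm fun v w => mul_comm' v w
  exact @Group.isSolvable_of_ker_le_range (G ⧸ Cfsg.pPrimeCore q G) _ ↥ρ.ker
    ((G ⧸ Cfsg.pPrimeCore q G) ⧸ ρ.ker) _ _ ρ.ker.subtype (QuotientGroup.mk' ρ.ker)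
    (by rw [QuotientGroup.ker_mk', Subgroup.range_subtype]) hsK hsA

theorem main (hBaer : ∀ x : G, IsPElem q x → ∃ r a, r.Prime ∧ (cent x).index = r ^ a) (Q : Sylow q G) :
    (∃ K L : Subgroup G, K.Normal ∧ L.Normal ∧ K ≤ L ∧ (Nat.card K).Coprime q ∧
      (∃ m : ℕ, K.relIndex L = q ^ m) ∧ L.index.Coprime q) ∧
    ∃ p : ℕ, p.Prime ∧ (∀ x : G, IsPElem q x → ∃ a, (cent x).index = p ^ a) ∧
      (p = q → (Q : Subgroup G).Normal ∧ ∃ N : Subgroup G, N.Normal ∧ N.IsComplement' (Q : Subgroup G)) ∧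
      (p ≠ q → (∀ x ∈ Q, ∀ y ∈ Q, x * y = y * x) ∧ (Cfsg.pCore p G ⊔ (Q : Subgroup G)).Normal ∧
        ∀ _h : (Cfsg.pPrimeCore q G).Normal, Group.IsSolvable (G ⧸ Cfsg.pPrimeCore q G)) := by
  haveI hK : (Cfsg.pPrimeCore q G).Normal := (PCore.pPrimeCore_mem q G).1
  haveI : (Cfsg.pCore q (G ⧸ Cfsg.pPrimeCore q G)).Normal := Subgroup.sSup_normal _ (fun _ h => h.1)
  obtain ⟨hL, ⟨m, hm⟩, hidx⟩ := comap_eq_sup (Cfsg.pPrimeCore q G) Q fun x hx => by
    obtain ⟨r, a, hr, ha⟩ := hBaer x (isPElem_of_mem Q.2 hx)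
    exact mem_comap_core (isPElem_of_mem Q.2 hx) hr ha
  refine ⟨⟨_, _, hK, hL ▸ inferInstance, le_sup_left, PCore.pPrimeCore_coprime q G, ⟨m, hm⟩,
    PCore.coprime_of_not_dvd hidx⟩, ?_⟩
  by_cases hall : ∀ x : G, IsPElem q x → ∃ a, (cent x).index = q ^ a
  · exact ⟨q, hq.out, hall, fun _ => all_q Q hall, fun h => absurd rfl h⟩
  · push Not at hall
    obtain ⟨x0, hx0, hne⟩ := hall
    obtain ⟨r, a, hr, ha⟩ := hBaer x0 hx0
    have hrq : r ≠ q := fun h => hne a (h ▸ ha)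
    have ha0 : a ≠ 0 := fun h => hne 0 (by rw [ha, h, pow_zero, pow_zero])
    haveI := Fact.mk hr
    obtain ⟨hab, hp⟩ := mixed Q hBaer hx0 hr hrq ha0 ha
    exact ⟨r, hr, hp, fun h => absurd h hrq, fun _ =>
      ⟨hab, sup_normal Q hp, fun h => solvable_quotient (hK := h) Q hab hp⟩⟩

end CfsgLib.QBaer
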